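import Groth.Agent.Lib.Invert9.Perfect
import Groth.Agent.Lib.KFlat.EvalTen
import Groth.Agent.Lib.KFlat.EvalHomPC
import Groth.Agent.Lib.KFlat.HomD
import Groth.Agent.Lib.KInj.Derived
import Groth.Agent.Lib.TorBal.Perfect
import Groth.Prelude.Def_DTen
import Mathlib.CategoryTheory.Linear.LinearFunctor

/-!
The image of the unit under a linear exact autoequivalence of the bounded coherent derived category
is invertible.
-/

set_option autoImplicit false
set_option linter.unusedSectionVars false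
set_option linter.style.haveILetI false
set_option backward.isDefEq.respectTransparency false
set_option backward.isDefEq.respectTransparency.types false

universe u

open CategoryTheory CategoryTheory.Limits MonoidalCategory CochainComplex CochainComplex.HomComplex
open Pretriangulated

attribute [local instance] HasDerivedCategory.standard

namespace Groth.Agent.Invert9

open Groth.Agent.DMod Groth.Agent.KFlat

variable {A : Type u} [CommRing A]

theorem ofHom_smul' {K L : DRing.Cx A} (a : A) (f : K ⟶ L) :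
    Cochain.ofHom (a • f) = a • Cochain.ofHom f := by
  ext p
  simp

/-- A cocycle whose morphism is null-homotopic is a coboundary. -/
theorem exists_δ {K L : DRing.Cx A} {n : ℤ} (z : Cocycle K L n)
    (hz : ∀ φ : K ⟶ L⟦n⟧, Nonempty (Homotopy φ 0)) (m : ℤ) (hm : m + 1 = n) :
    ∃ α : Cochain K L m, δ m n α = z.1 := by
  obtain ⟨φ, hφ⟩ := (Cocycle.equivHom ..).surjective (z.rightShift n 0 (zero_add n))
  rw [Cocycle.ext_iff] at hφ
  replace hφ : Cochain.ofHom φ = z.1.rightShift n 0 (zero_add n) := hφ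
  obtain ⟨h⟩ := hz φ
  obtain ⟨f, hf⟩ := Cochain.equivHomotopy _ _ h
  simp only [Int.reduceNeg, Cochain.ofHom_zero, add_zero] at hf
  refine ⟨n.negOnePow • Cochain.rightUnshift f m (by lia), ?_⟩
  apply (Cochain.rightShiftAddEquiv _ _ _ n 0 (by simp)).injective
  simp only [Cochain.rightShiftAddEquiv_apply]
  rw [← hφ, hf, δ_units_smul, Cochain.rightShift_units_smul,
    Cochain.δ_rightUnshift _ _ _ _ 0 (by simp)]
  simp [smul_smul]

section EndCx

variable (E : DRing.Cx A)

/-- The scalars as endomorphisms of a complex. -/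
noncomputable def scalarHom : 𝟙_ (DRing.Cx A) ⟶ DRing.homCx E E :=
  HomologicalComplex.mkHomFromSingle
    (ModuleCat.ofHom (LinearMap.toSpanSingleton A (Cochain E E 0) (Cochain.ofHom (𝟙 E))))
    (fun j _ => by
      ext
      change δ 0 j ((1 : A) • Cochain.ofHom (𝟙 E)) = 0
      rw [one_smul]
      rcases eq_or_ne j 1 with rfl | hj
      · exact δ_ofHom _
      · exact δ_shape _ _ (fun h => hj (by omega)) _)

theorem scalarHom_apply (x : (𝟙_ (DRing.Cx A)).X 0) :
    (scalarHom E).f 0 x = ((HomologicalComplex.singleObjXSelf (ComplexShape.up ℤ) 0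
      (𝟙_ (ModuleCat.{u} A))).hom x : A) • Cochain.ofHom (𝟙 E) := by
  rw [scalarHom, HomologicalComplex.mkHomFromSingle_f]
  rfl

theorem subsingleton_unit_X (i : ℤ) (hi : i ≠ 0) : Subsingleton ((𝟙_ (DRing.Cx A)).X i) :=
  ModuleCat.subsingleton_of_isZero
    (HomologicalComplex.isZero_single_obj_X (ComplexShape.up ℤ) 0 (𝟙_ (ModuleCat.{u} A)) i hi)

theorem quasiIso_scalarHom [E.IsKProjective]
    (h : ∀ i : ℤ, i ≠ 0 → Subsingleton (DRing.toD E ⟶ (DRing.toD E)⟦i⟧))
    (hb : Function.Bijective fun a : A => a • 𝟙 (DRing.toD E)) : QuasiIso (scalarHom E) := by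
  haveI := fun i => h i
  rw [quasiIso_iff]
  intro i
  rw [quasiIsoAt_iff_isIso_homologyMap, ConcreteCategory.isIso_iff_bijective]
  refine ⟨homologyMap_injective _ (i := i - 1) (k := i + 1) (by simp) (by simp) fun w y hw hy => ?_,
    homologyMap_surjective _ (i := i - 1) (k := i + 1) (by simp) (by simp) fun x hx => ?_⟩
  · rcases eq_or_ne i 0 with rfl | hi
    · refine ⟨0, ?_⟩
      rw [map_zero, eq_comm]
      rw [scalarHom_apply] at hy
      set a : A := (HomologicalComplex.singleObjXSelf (ComplexShape.up ℤ) 0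
        (𝟙_ (ModuleCat.{u} A))).hom w with ha
      have hy' : δ (-1) 0 (show Cochain E E (-1) from y) = a • Cochain.ofHom (𝟙 E) := hy
      have h0 : DerivedCategory.Q.map (a • 𝟙 E) = DerivedCategory.Q.map (0 : E ⟶ E) :=
        DerivedCategory.Q_map_eq_of_homotopy _ ((Cochain.equivHomotopy _ _).symm
          ⟨y, by rw [hy', Cochain.ofHom_zero, add_zero, ofHom_smul']⟩)
      rw [Functor.map_smul, Functor.map_zero, CategoryTheory.Functor.map_id] at h0
      have : a = 0 := hb.1 (h0.trans (zero_smul A (𝟙 (DRing.toD E))).symm)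
      apply (HomologicalComplex.singleObjXSelf (ComplexShape.up ℤ) 0
        (𝟙_ (ModuleCat.{u} A))).toLinearEquiv.injective
      rw [map_zero]
      exact ha.symm.trans this
    · have := subsingleton_unit_X (A := A) i hi
      exact ⟨0, Subsingleton.elim _ _⟩
  · let z : Cochain E E i := x
    have hz : δ i (i + 1) z = 0 := hx
    rcases eq_or_ne i 0 with rfl | hi
    · let φ : E ⟶ E := Cocycle.homOf ⟨z, (Cocycle.mem_iff 0 1 (zero_add 1) z).2 hz⟩
      obtain ⟨a, ha⟩ := hb.2 (DerivedCategory.Q.map φ)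
      have h0 : DerivedCategory.Q.map (φ - a • 𝟙 E) = 0 := by
        rw [Functor.map_sub, Functor.map_smul, CategoryTheory.Functor.map_id, ← ha, sub_self]
      obtain ⟨H⟩ := (DMod.map_eq_zero_iff _).1 h0
      obtain ⟨y, hy⟩ := Cochain.equivHomotopy _ _ H
      refine ⟨(HomologicalComplex.singleObjXSelf (ComplexShape.up ℤ) 0 (𝟙_ (ModuleCat.{u} A))).inv a,
        y, ?_, ?_⟩
      · have := subsingleton_unit_X (A := A) ((0 : ℤ) + 1) (by omega)
        exact Subsingleton.elim _ _
      · rw [scalarHom_apply]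
        erw [Iso.inv_hom_id_apply]
        have hy' : Cochain.ofHom (φ - a • 𝟙 E) = δ (-1) 0 y := by
          rw [hy, Cochain.ofHom_zero, add_zero]
        change a • Cochain.ofHom (𝟙 E) + δ (-1) 0 y = z
        rw [← hy', Cochain.ofHom_sub, ofHom_smul']
        simp [φ, Cocycle.cochain_ofHom_homOf_eq_coe]
    · obtain ⟨α, hα⟩ := exists_δ ⟨z, (Cocycle.mem_iff i (i + 1) rfl z).2 hz⟩ (fun φ => by
        refine (DMod.map_eq_zero_iff φ).1 ?_
        rw [← cancel_mono ((DerivedCategory.Q.commShiftIso i).hom.app E), zero_comp]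
        exact (h i hi).elim _ _) (i - 1) (by omega)
      exact ⟨0, α, map_zero _, by rw [map_zero, zero_add]; exact hα⟩

end EndCx

section

variable [DTen.HasLTen A]

theorem isInvertible_of_perfect (X : Dual.D A) (hX : DRing.IsPerfect A X)
    (h : ∀ i : ℤ, i ≠ 0 → Subsingleton (X ⟶ X⟦i⟧))
    (hb : Function.Bijective fun a : A => a • 𝟙 X) : DTen.IsInvertible A X := by
  haveI := DT.hasLTen₃ (R := A)
  haveI := DT.isSymMonoidal A
  haveI : DTen.HasRHom A := HomD.hasRHom (R := A)
  obtain ⟨E, a, b, -, -, hE, ⟨e⟩⟩ := HomD.exists_strictlyPerfect_rep hX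
  have hbE : Function.Bijective fun a : A => a • 𝟙 (DRing.toD E) := by
    convert (Iso.homCongr e.symm e.symm).bijective.comp hb using 2 with a
    simp [Iso.homCongr]
  have hE0 : ∀ i : ℤ, i ≠ 0 → Subsingleton (DRing.toD E ⟶ (DRing.toD E)⟦i⟧) := fun i hi =>
    have := h i hi
    (Iso.homCongr e ((CategoryTheory.shiftFunctor (Dual.D A) i).mapIso e)).subsingleton
  haveI := quasiIso_scalarHom E hE0 hbE
  obtain ⟨I, hI, ⟨eI⟩⟩ := KInjLib.exists_iso_kInjective (DerivedCategory.Q.obj E)
  obtain ⟨q, hq⟩ := KInjLib.exists_map_eq eI.hom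
  haveI : QuasiIso q := (DerivedCategory.isIso_Q_map_iff_quasiIso _ q).1 (by rw [hq]; infer_instance)
  haveI := HomD.quasiIso_homCx_map E q
  haveI := HomD.isIso_κ_of_isKInjective E I
  let Y := (DTen.RHomR A X).obj (DTen.unit A)
  have hev : IsIso (DTen.evalTen X (DTen.unit A) X) :=
    HomD.isIso_evalTen_of_isPerfect_hom_source _ _ _ hX
  have hu : IsIso ((DTen.unitR A).app X) := DT.isIso_unitR_app X
  let e₁ : (DTen.LTen₂ A).obj (X, Y) ≅ (DTen.RHomR A X).obj X :=
    @asIso _ _ _ _ (DTen.evalTen X (DTen.unit A) X) hev ≪≫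
      (DTen.RHomR A X).mapIso (@asIso _ _ _ _ ((DTen.unitR A).app X) hu)
  let e₂ : (DTen.RHomR A X).obj X ≅ (DTen.RHomR A (DerivedCategory.Q.obj E)).obj (DerivedCategory.Q.obj I) :=
    ((DTen.RHom A).mapIso e.op).app X ≪≫
      (DTen.RHomR A (DerivedCategory.Q.obj E)).mapIso (e.symm ≪≫ eI)
  let e₃ : (DTen.LTen₂ A).obj (X, Y) ≅ DTen.unit A :=
    e₁ ≪≫ e₂ ≪≫ (asIso (HomD.κ E I)).symm ≪≫
      (asIso (DerivedCategory.Q.map ((DRing.homCxFunctor E).map q))).symm ≪≫
      (asIso (DerivedCategory.Q.map (scalarHom E))).symm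
  haveI := DT.isIso_symm_app X Y
  exact ⟨Y, ⟨e₃⟩, ⟨asIso ((DTen.symm A).app (X, Y)) ≪≫ e₃⟩⟩

end

section Unit

/-- `A` in degree zero as the image of the unit complex. -/
noncomputable def unitIso : (single 0).obj (𝟙_ (ModuleCat.{u} A)) ≅ DTen.unit A :=
  (DerivedCategory.singleFunctorIsoCompQ (ModuleCat.{u} A) 0).app _

theorem bijective_unit : Function.Bijective fun a : A => a • 𝟙 (DTen.unit A) := by
  have h1 : Function.Bijective fun a : A => a • 𝟙 (𝟙_ (ModuleCat.{u} A)) := by
    refine ⟨fun a b h => ?_, fun f => ⟨f.hom (1 : A), ?_⟩⟩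
    · have := congrArg (fun t => t.hom (1 : A)) h
      simpa using this
    · ext
      simp
      exact mul_one _
  have h2 := ((Functor.FullyFaithful.ofFullyFaithful (DerivedCategory.singleFunctor (ModuleCat.{u} A) 0)).homEquiv
    (X := 𝟙_ (ModuleCat.{u} A)) (Y := 𝟙_ (ModuleCat.{u} A))).bijective.comp h1
  convert (Iso.homCongr unitIso unitIso).bijective.comp h2 using 2 with a
  simp [Iso.homCongr, Functor.map_smul]

theorem isGE_unit : (DTen.unit A).IsGE 0 :=
  (tS A).isGE_of_iso (unitIso (A := A)) 0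

theorem isLE_unit : (DTen.unit A).IsLE 0 :=
  (tS A).isLE_of_iso (unitIso (A := A)) 0

theorem hom_unit_eq_zero {N : Dual.D A} (n : ℤ) (hn : n < 0) [N.IsLE n] (f : DTen.unit A ⟶ N) : f = 0 := by
  haveI : (𝟙_ (DRing.Cx A)).IsStrictlyLE 0 := (CochainComplex.isStrictlyLE_iff _ 0).2 fun i hi =>
    HomologicalComplex.isZero_single_obj_X (ComplexShape.up ℤ) 0 (𝟙_ (ModuleCat.{u} A)) i (by omega)
  haveI : (𝟙_ (DRing.Cx A)).IsStrictlyGE 0 := (CochainComplex.isStrictlyGE_iff _ 0).2 fun i hi =>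
    HomologicalComplex.isZero_single_obj_X (ComplexShape.up ℤ) 0 (𝟙_ (ModuleCat.{u} A)) i (by omega)
  haveI : (𝟙_ (DRing.Cx A)).IsKProjective := DMod.isKProjective 0 fun i => by
    rcases eq_or_ne i 0 with rfl | hi
    · haveI : Module.Projective A A := inferInstance
      exact Module.Projective.of_equiv (R := A) (M := A) (HomologicalComplex.singleObjXSelf (ComplexShape.up ℤ) 0
        (𝟙_ (ModuleCat.{u} A))).symm.toLinearEquiv
    · have := subsingleton_unit_X (A := A) i hi
      have := Module.Free.of_subsingleton A ((𝟙_ (DRing.Cx A)).X i)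
      infer_instance
  exact DMod.hom_eq_zero 0 n hn f

theorem subsingleton_unit_shift (i : ℤ) (hi : i ≠ 0) :
    Subsingleton (DTen.unit A ⟶ (DTen.unit A)⟦i⟧) := by
  haveI := isLE_unit (A := A)
  haveI := isGE_unit (A := A)
  refine ⟨fun f g => sub_eq_zero.1 ?_⟩
  rcases lt_or_gt_of_ne hi with hi | hi
  · exact (tS A).zero_of_isLE_of_isGE _ 0 (-i) (by omega) inferInstance
      ((tS A).isGE_shift (DTen.unit A) 0 i (-i) (by omega))
  · have : ((DTen.unit A)⟦i⟧).IsLE (-i) := (tS A).isLE_shift (DTen.unit A) 0 i (-i) (by omega)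
    exact hom_unit_eq_zero (-i) (by omega) _

end Unit

theorem main [IsNoetherianRing A] [DTen.HasLTen A]
    (P : ObjectProperty (Dual.D A))
    (hP : ∀ K : Dual.D A, P K ↔
      ((∀ i : ℤ, Module.Finite A (Dual.HD A K i)) ∧
        ∃ a b : ℤ, ∀ i : ℤ, (i < a ∨ b < i) → Subsingleton (Dual.HD A K i)))
    [P.IsTriangulated]
    (F : P.FullSubcategory ⥤ P.FullSubcategory) [F.CommShift ℤ] [F.IsEquivalence] [F.Additive]
    [F.Linear A] (hA : P (DTen.unit A)) :
    DTen.IsInvertible A (F.obj ⟨DTen.unit A, hA⟩).obj := by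
  let U : P.FullSubcategory := ⟨DTen.unit A, hA⟩
  let X := F.obj U
  -- morphisms out of `F A`
  have key : ∀ (N : P.FullSubcategory) (i : ℤ),
      Subsingleton (DTen.unit A ⟶ N.obj⟦i⟧) → Subsingleton (X.obj ⟶ (F.obj N).obj⟦i⟧) := fun N i h => by
    have h' : Subsingleton (U ⟶ N⟦i⟧) :=
      @Equiv.subsingleton _ _ ((P.fullyFaithfulι.homEquiv (X := U) (Y := N⟦i⟧)).trans
        (Iso.homCongr (Iso.refl _) ((P.ι.commShiftIso i).app N))) h
    have h'' : Subsingleton (X ⟶ (F.obj N)⟦i⟧) :=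
      (((Functor.FullyFaithful.ofFullyFaithful F).homEquiv (X := U) (Y := N⟦i⟧)).trans
        (Iso.homCongr (Iso.refl _) ((F.commShiftIso i).app N))).symm.subsingleton
    exact ((P.fullyFaithfulι.homEquiv (X := X) (Y := (F.obj N)⟦i⟧)).trans
        (Iso.homCongr (Iso.refl _) ((P.ι.commShiftIso i).app (F.obj N)))).symm.subsingleton
  have hX0 : ∀ i : ℤ, i ≠ 0 → Subsingleton (X.obj ⟶ X.obj⟦i⟧) := fun i hi =>
    key U i (subsingleton_unit_shift i hi)
  have hb : Function.Bijective fun a : A => a • 𝟙 X.obj := by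
    have h1 := bijective_unit (A := A)
    have h2 : Function.Bijective fun a : A => a • 𝟙 U := by
      have := (P.fullyFaithfulι.homEquiv (X := U) (Y := U)).symm.bijective.comp h1
      convert this using 2 with a
      apply (P.fullyFaithfulι.homEquiv (X := U) (Y := U)).injective
      rw [Function.comp_apply, Equiv.apply_symm_apply]
      change P.ι.map (a • 𝟙 U) = a • 𝟙 (P.ι.obj U)
      rw [Functor.map_smul, CategoryTheory.Functor.map_id]
    have h3 := (P.fullyFaithfulι.homEquiv (X := X) (Y := X)).bijective.comp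
      (((Functor.FullyFaithful.ofFullyFaithful F).homEquiv (X := U) (Y := U)).bijective.comp h2)
    convert h3 using 2 with a
    change a • 𝟙 X.obj = P.ι.map (F.map (a • 𝟙 U))
    rw [Functor.map_smul, Functor.map_smul, CategoryTheory.Functor.map_id, CategoryTheory.Functor.map_id]
    rfl
  obtain ⟨hfin, c, b, hXb⟩ := (hP X.obj).1 X.property
  refine isInvertible_of_perfect X.obj (isPerfect_of_bounded X.obj c b hfin hXb fun m hm => ?_) hX0 hb
  -- the residue fields
  let M : Dual.D A := Dual.inD A (A ⧸ m)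
  haveI : M.IsLE 0 := inferInstanceAs (((single 0).obj (ModuleCat.of A (A ⧸ m))).IsLE 0)
  haveI : M.IsGE 0 := inferInstanceAs (((single 0).obj (ModuleCat.of A (A ⧸ m))).IsGE 0)
  have hM : P M := (hP M).2 ⟨fun i => by
    rcases eq_or_ne i 0 with rfl | hi
    · haveI : Module.Finite A (A ⧸ m) := inferInstance
      exact Module.Finite.equiv (R := A) (M := A ⧸ m) (((DerivedCategory.singleFunctorCompHomologyFunctorIso
        (ModuleCat.{u} A) 0).app (ModuleCat.of A (A ⧸ m))).symm.toLinearEquiv)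
    · have : Subsingleton (Dual.HD A M i) := by
        rcases lt_or_gt_of_ne hi with hi | hi
        · exact (isGE_iff M 0).1 inferInstance i hi
        · exact (isLE_iff M 0).1 inferInstance i hi
      infer_instance,
    0, 0, fun i hi => hi.elim ((isGE_iff M 0).1 inferInstance i) ((isLE_iff M 0).1 inferInstance i)⟩
  let N := F.objPreimage ⟨M, hM⟩
  let eN : (F.obj N).obj ≅ M := P.ι.mapIso (F.objObjPreimageIso ⟨M, hM⟩)
  obtain ⟨-, a', b', hN⟩ := (hP N.obj).1 N.property
  haveI : N.obj.IsLE b' := (isLE_iff N.obj b').2 fun i hi => hN i (Or.inr hi)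
  refine ⟨min 0 (-b'), fun l hl => ?_⟩
  have hz : Subsingleton (X.obj ⟶ (F.obj N).obj⟦-l⟧) := key N (-l) ⟨fun f g => sub_eq_zero.1 (by
    have : (N.obj⟦-l⟧).IsLE (b' + l) := (tS A).isLE_shift N.obj b' (-l) (b' + l) (by omega)
    exact hom_unit_eq_zero (b' + l) (by omega) _)⟩
  exact (Iso.homCongr (Iso.refl X.obj)
    ((CategoryTheory.shiftFunctor (Dual.D A) (-l)).mapIso eN ≪≫ singleShiftIso l _)).symm.subsingleton

end Groth.Agent.Invert9
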