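import Groth.Agent.Lib.DMod.Amplitude
import Groth.Agent.Lib.DMod.PCHomology
import Groth.Agent.Lib.DMod.ResClass
import Groth.Agent.Lib.DMod.TruncGE
import Mathlib.RingTheory.Spectrum.Prime.FreeLocus
import Mathlib.RingTheory.LocalRing.Module
import Mathlib.RingTheory.Finiteness.Nakayama
import Mathlib.Algebra.Module.LocalizedModule.Exact
import Mathlib.RingTheory.Localization.Module

/-!
A bounded object with finite cohomology over a Noetherian ring is perfect if, at each maximal ideal,
it has only finitely many non-zero Ext groups into the residue field.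
-/

set_option autoImplicit false
set_option linter.unusedSectionVars false
set_option backward.isDefEq.respectTransparency false

universe u

open CategoryTheory CategoryTheory.Limits

attribute [local instance] HasDerivedCategory.standard

namespace Groth.Agent.Invert9

open Groth.Agent.DMod

variable {A : Type u} [CommRing A]

section Local

variable {K F N : Type u} [AddCommGroup K] [Module A K] [AddCommGroup F] [Module A F]
  [AddCommGroup N] [Module A N] (P : Ideal A) [P.IsPrime]

/-- Localisation at a prime. -/
noncomputable abbrev loc (g : K →ₗ[A] F) :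
    LocalizedModule P.primeCompl K →ₗ[Localization.AtPrime P] LocalizedModule P.primeCompl F :=
  IsLocalizedModule.mapExtendScalars P.primeCompl (LocalizedModule.mkLinearMap P.primeCompl K)
    (LocalizedModule.mkLinearMap P.primeCompl F) (Localization.AtPrime P) g

theorem loc_mk (g : K →ₗ[A] F) (x : K) (s : P.primeCompl) :
    loc P g (LocalizedModule.mk x s) = LocalizedModule.mk (g x) s :=
  (IsLocalizedModule.mapExtendScalars_apply_apply ..).trans
    (IsLocalizedModule.map_LocalizedModules P.primeCompl g x s)

/-- The free locus of the kernel contains that of the quotient. -/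
theorem free_of_step [Module.Finite A K] [Module.Projective A F] (i : K →ₗ[A] F) (q : F →ₗ[A] N)
    (hi : Function.Injective i) (hex : Function.Exact i q) (hq : Function.Surjective q)
    (hN : Module.Free (Localization.AtPrime P) (LocalizedModule P.primeCompl N)) :
    Module.Free (Localization.AtPrime P) (LocalizedModule P.primeCompl K) := by
  haveI : Module.Projective (Localization.AtPrime P) (LocalizedModule P.primeCompl F) :=
    Module.projective_of_isLocalizedModule P.primeCompl (LocalizedModule.mkLinearMap P.primeCompl F)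
  haveI := hN
  have h := resClass_projective (A := Localization.AtPrime P) |>.left (loc P i) (loc P q)
    (fun a b h => IsLocalizedModule.map_injective P.primeCompl _ _ i hi
      (by simpa [IsLocalizedModule.mapExtendScalars_apply_apply] using h))
    (fun y => (LocalizedModule.map_exact P.primeCompl i q hex) y)
    (fun y => IsLocalizedModule.map_surjective P.primeCompl _ _ q hq y)
    inferInstance inferInstance
  haveI := h
  exact Module.free_of_flat_of_isLocalRing

/-- If functionals of the reduction extend then the localisation is free. -/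
theorem free_of_extend [Module.Finite A K] [Module.Projective A F] [P.IsMaximal] (g : K →ₗ[A] F)
    (h : ∀ φ : K →ₗ[A] A ⧸ P, ∃ ψ : F →ₗ[A] A ⧸ P, ψ ∘ₗ g = φ) :
    Module.Free (Localization.AtPrime P) (LocalizedModule P.primeCompl K) := by
  letI := Ideal.Quotient.field P
  let V := K ⧸ P • (⊤ : Submodule A K)
  haveI : Module.Finite (A ⧸ P) V := Module.Finite.of_restrictScalars_finite A _ _
  let b := Module.finBasis (A ⧸ P) V
  let r := Module.finrank (A ⧸ P) V
  choose x hx using fun j : Fin r => Submodule.mkQ_surjective (P • (⊤ : Submodule A K)) (b j)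
  let σ : (Fin r → A) →ₗ[A] K := Fintype.linearCombination A x
  choose ψ hψ using fun j : Fin r =>
    h (((b.coord j).restrictScalars A) ∘ₗ (P • (⊤ : Submodule A K)).mkQ)
  choose Ψ hΨ using fun j : Fin r =>
    Module.projective_lifting_property (Ideal.Quotient.mkₐ A P).toLinearMap (ψ j) Ideal.Quotient.mk_surjective
  let τ : K →ₗ[A] (Fin r → A) := LinearMap.pi fun j => Ψ j ∘ₗ g
  let M : Matrix (Fin r) (Fin r) A := LinearMap.toMatrix' (τ ∘ₗ σ)
  have hentry : ∀ i j, Ideal.Quotient.mk P (M i j) = if i = j then 1 else 0 := by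
    intro i j
    have h1 : σ (Pi.single j 1) = x j := by
      simp [σ, Fintype.linearCombination_apply_single]
    have h2 : Ideal.Quotient.mk P (Ψ i (g (x j))) = ψ i (g (x j)) := LinearMap.congr_fun (hΨ i) _
    have h3 : ψ i (g (x j)) = b.coord i (b j) := by
      rw [show ψ i (g (x j)) = _ from LinearMap.congr_fun (hψ i) (x j), ← hx j]
      rfl
    rw [show M i j = Ψ i (g (σ (Pi.single j 1))) from LinearMap.toMatrix'_apply (τ ∘ₗ σ) i j, h1, h2, h3]
    simp [Finsupp.single_apply, eq_comm]
  have hdet : M.det ∉ P := by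
    rw [← Ideal.Quotient.eq_zero_iff_mem, RingHom.map_det,
      show (Ideal.Quotient.mk P).mapMatrix M = 1 from Matrix.ext fun i j => by
        simp [RingHom.mapMatrix_apply, hentry, Matrix.one_apply], Matrix.det_one]
    exact one_ne_zero
  have hspan : (⊤ : Submodule A K) ≤ LinearMap.range σ ⊔ P • ⊤ := by
    intro y _
    have hy := b.sum_repr ((P • (⊤ : Submodule A K)).mkQ y)
    choose c hc using fun j => Ideal.Quotient.mk_surjective (b.repr ((P • (⊤ : Submodule A K)).mkQ y) j)
    refine Submodule.mem_sup.2 ⟨σ c, ⟨c, rfl⟩, y - σ c, ?_, add_sub_cancel _ _⟩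
    rw [← Submodule.Quotient.mk_eq_zero, ← Submodule.mkQ_apply, map_sub, sub_eq_zero, ← hy]
    simp [σ, Fintype.linearCombination_apply, map_sum]
    change (P • (⊤ : Submodule A K)).mkQ y = _
    refine hy.symm.trans (Finset.sum_congr rfl fun j _ => ?_)
    rw [← hc j, ← hx j]
    rfl
  obtain ⟨t, ht, ht'⟩ := Submodule.exists_sub_one_mem_and_smul_eq_zero_of_fg_of_le_smul P
    (⊤ : Submodule A (K ⧸ LinearMap.range σ)) Module.Finite.fg_top (by
      intro z _
      obtain ⟨y, rfl⟩ := Submodule.mkQ_surjective _ z
      obtain ⟨y₁, hy₁, y₂, hy₂, rfl⟩ := Submodule.mem_sup.1 (hspan (Submodule.mem_top (x := y)))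
      rw [map_add, show (LinearMap.range σ).mkQ y₁ = 0 from (Submodule.Quotient.mk_eq_zero _).2 hy₁,
        zero_add]
      exact Submodule.smul_mono le_rfl le_top
        ((Submodule.map_smul'' P ⊤ (LinearMap.range σ).mkQ) ▸ Submodule.mem_map_of_mem hy₂))
  have htP : t ∉ P := fun hc => by
    apply (Ideal.ne_top_iff_one P).1 (Ideal.IsPrime.ne_top inferInstance)
    simpa using P.sub_mem hc ht
  have hbij : Function.Bijective (loc P σ) := by
    constructor
    · rw [injective_iff_map_eq_zero]
      intro v hv
      induction v using LocalizedModule.induction_on with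
      | _ w s =>
        rw [loc_mk, ← LocalizedModule.zero_mk 1, LocalizedModule.mk_eq] at hv
        obtain ⟨a, ha⟩ := hv
        simp only [one_smul, smul_zero, Submonoid.smul_def] at ha
        have ha' : (a : A) • w = 0 → LocalizedModule.mk w s = 0 := fun h => by
          rw [← LocalizedModule.zero_mk 1, LocalizedModule.mk_eq]
          exact ⟨a, by simpa [Submonoid.smul_def] using h⟩
        have hM : M.det • ((a : A) • w) = 0 := by
          have hz : M.mulVec ((a : A) • w) = 0 := by
            rw [← Matrix.toLin'_apply, Matrix.toLin'_toMatrix']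
            change τ (σ ((a : A) • w)) = 0
            rw [map_smul σ, ha, map_zero]
          have := congrArg (Matrix.mulVec M.adjugate) hz
          rwa [Matrix.mulVec_mulVec, Matrix.adjugate_mul, Matrix.smul_mulVec, Matrix.one_mulVec,
            Matrix.mulVec_zero] at this
        rw [← LocalizedModule.zero_mk 1, LocalizedModule.mk_eq]
        exact ⟨⟨M.det, hdet⟩ * a, by simpa [Submonoid.smul_def, mul_smul] using hM⟩
    · intro z
      induction z using LocalizedModule.induction_on with
      | _ y s =>
        obtain ⟨c, hc⟩ : t • y ∈ LinearMap.range σ :=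
          (Submodule.Quotient.mk_eq_zero _).1 (ht' (Submodule.Quotient.mk y) trivial)
        refine ⟨LocalizedModule.mk c (⟨t, htP⟩ * s), ?_⟩
        rw [loc_mk, hc]
        exact LocalizedModule.mk_cancel_common_left ⟨t, htP⟩ s y
  haveI : Module.Free (Localization.AtPrime P) (LocalizedModule P.primeCompl (Fin r → A)) :=
    Module.free_of_isLocalizedModule P.primeCompl (LocalizedModule.mkLinearMap P.primeCompl (Fin r → A))
  exact Module.Free.of_equiv (LinearEquiv.ofBijective (loc P σ) hbij)

end Local

/-- Maps into `N` killing boundaries factor through the differential. -/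
theorem factor_of_hom {F : DRing.Cx A} [F.IsKProjective] {n : ℤ} (N : ModuleCat.{u} A)
    (h : Subsingleton (DRing.toD F ⟶ (single n).obj N))
    (f : F.X n →ₗ[A] N) (hf : f ∘ₗ (F.d (n - 1) n).hom = 0) :
    ∃ g : F.X (n + 1) →ₗ[A] N, g ∘ₗ (F.d n (n + 1)).hom = f := by
  let S := (HomologicalComplex.single (ModuleCat.{u} A) (ComplexShape.up ℤ) n).obj N
  let φ : F ⟶ S := HomologicalComplex.mkHomToSingle (ModuleCat.ofHom f) (fun j hj => by
      obtain rfl : j = n - 1 := by
        have : j + 1 = n := hj
        omega
      ext x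
      exact LinearMap.congr_fun hf x)
  let e := (DerivedCategory.singleFunctorIsoCompQ (ModuleCat.{u} A) n).app N
  have h0 : DerivedCategory.Q.map φ = 0 := by
    have := h.elim (DerivedCategory.Q.map φ ≫ e.inv) 0
    exact (cancel_mono e.inv).1 (this.trans zero_comp.symm)
  obtain ⟨H⟩ := (map_eq_zero_iff φ).1 h0
  have hc := H.comm n
  rw [HomologicalComplex.mkHomToSingle_f, dNext_eq H.hom (show (ComplexShape.up ℤ).Rel n (n + 1) from rfl),
    prevD_eq H.hom (show (ComplexShape.up ℤ).Rel (n - 1) n from sub_add_cancel n 1),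
    HomologicalComplex.single_obj_d, comp_zero, add_zero, HomologicalComplex.zero_f, add_zero] at hc
  refine ⟨(H.hom (n + 1) n ≫ (HomologicalComplex.singleObjXSelf (ComplexShape.up ℤ) n N).hom).hom, ?_⟩
  have hc' := congrArg (fun k => k ≫ (HomologicalComplex.singleObjXSelf (ComplexShape.up ℤ) n N).hom) hc
  simp only [Category.assoc, Iso.inv_hom_id, Category.comp_id] at hc'
  exact (congrArg ModuleCat.Hom.hom hc').symm

/-- The cokernel in degree `n`. -/
abbrev cok (F : DRing.Cx A) (n : ℤ) : Type u := F.X n ⧸ LinearMap.range (F.d (n - 1) n).hom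

theorem isPerfect_of_bounded [IsNoetherianRing A] (X : Dual.D A) (c b : ℤ)
    (hfin : ∀ i, Module.Finite A (Dual.HD A X i))
    (hX : ∀ i, (i < c ∨ b < i) → Subsingleton (Dual.HD A X i))
    (h : ∀ m : Ideal A, m.IsMaximal → ∃ N : ℤ, ∀ l, l < N →
      Subsingleton (X ⟶ (single l).obj (ModuleCat.of A (A ⧸ m)))) :
    DRing.IsPerfect A X := by
  haveI : X.IsLE b := (isLE_iff X b).2 fun i hi => hX i (Or.inr hi)
  obtain ⟨F, B, hB, hF, ⟨e⟩⟩ := (pc'_iff X).2 fun m =>
    pc_of_homology (b := b) fun i _ => have := hfin i; pcModule_of_noetherian _ _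
  haveI : F.IsStrictlyLE B := (vanishesAbove_iff F B).1 hB
  have hFp : ∀ i, Module.Projective A (F.X i) := fun i => have := (hF i).2; inferInstance
  haveI : F.IsKProjective := isKProjective B hFp
  have hexact : ∀ i, i < c → ∀ x, F.d i (i + 1) x = 0 → ∃ y, F.d (i - 1) i y = x := by
    intro i hi
    refine (subsingleton_homology_iff F (i := i - 1) (k := i + 1) (by simp) (by simp)).1 ?_
    exact (subsingleton_HD_toD_iff F i).1
      (((HH i).mapIso e).toLinearEquiv.toEquiv.subsingleton_congr.2 (hX i (Or.inl hi)))
  haveI : ∀ n, Module.Finite A (cok F n) := fun n => have := (hF n).1; inferInstance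
  haveI : ∀ n, Module.FinitePresentation A (cok F n) := fun n =>
    Module.finitePresentation_of_finite A _
  -- the free loci decrease
  have hstep : ∀ n, n < c → Module.freeLocus A (cok F (n + 1)) ⊆ Module.freeLocus A (cok F n) := by
    intro n hn p hp
    let i : cok F n →ₗ[A] F.X (n + 1) := (LinearMap.range (F.d (n - 1) n).hom).liftQ (F.d n (n + 1)).hom (by
      rintro _ ⟨y, rfl⟩
      change F.d n (n + 1) (F.d (n - 1) n y) = 0
      rw [← ModuleCat.comp_apply, F.d_comp_d]
      rfl)
    haveI : Module.Finite A (cok F n) := inferInstance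
    haveI := hFp (n + 1)
    refine free_of_step p.asIdeal i (LinearMap.range (F.d (n + 1 - 1) (n + 1)).hom).mkQ ?_ ?_
      (Submodule.mkQ_surjective _) hp
    · rw [injective_iff_map_eq_zero]
      intro q hq
      obtain ⟨x, rfl⟩ := Submodule.mkQ_surjective _ q
      exact (Submodule.Quotient.mk_eq_zero _).2 (hexact n hn x hq)
    · rw [LinearMap.exact_iff, Submodule.ker_mkQ, Submodule.range_liftQ]
      have key : ∀ m, m = n → LinearMap.range (F.d m (n + 1)).hom = LinearMap.range (F.d n (n + 1)).hom := by
        rintro m rfl; rfl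
      exact key _ (by omega)
  let U : ℕ → Set (PrimeSpectrum A) := fun k => Module.freeLocus A (cok F (c - k))
  have hmono : Monotone U := monotone_nat_of_le_succ fun k => by
    have h1 := hstep (c - (k + 1 : ℕ)) (by omega)
    have h2 : c - ((k + 1 : ℕ) : ℤ) + 1 = c - k := by omega
    rw [h2] at h1
    exact h1
  have hmax : ∀ m : Ideal A, ∀ (hm : m.IsMaximal), ∃ k, (⟨m, hm.isPrime⟩ : PrimeSpectrum A) ∈ U k := by
    intro m hm
    obtain ⟨N, hN⟩ := h m hm
    refine ⟨(c - N + 1).toNat, ?_⟩
    let l := c - ((c - N + 1).toNat : ℤ)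
    have hl : l < N := by omega
    haveI := hFp (l + 1)
    let g : cok F l →ₗ[A] F.X (l + 1) := (LinearMap.range (F.d (l - 1) l).hom).liftQ (F.d l (l + 1)).hom (by
      rintro _ ⟨y, rfl⟩
      change F.d l (l + 1) (F.d (l - 1) l y) = 0
      rw [← ModuleCat.comp_apply, F.d_comp_d]
      rfl)
    refine free_of_extend m g fun φ => ?_
    haveI := hN l hl
    obtain ⟨ψ, hψ⟩ := factor_of_hom (F := F) (n := l) (ModuleCat.of A (A ⧸ m))
      ((e.homFromEquiv).subsingleton_congr.2 (hN l hl))
      (φ ∘ₗ (LinearMap.range (F.d (l - 1) l).hom).mkQ)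
      (by rw [LinearMap.comp_assoc, LinearMap.range_mkQ_comp, LinearMap.comp_zero])
    exact ⟨ψ, Submodule.linearMap_qext _ (by rw [LinearMap.comp_assoc, Submodule.liftQ_mkQ]; exact hψ)⟩
  have hopen : ∀ k, IsOpen (U k) := fun k => Module.isOpen_freeLocus
  have hcover : Set.univ ⊆ ⋃ k, U k := by
    intro p _
    obtain ⟨m, hm, hpm⟩ := p.asIdeal.exists_le_maximal p.isPrime.ne_top
    obtain ⟨k, hk⟩ := hmax m hm
    refine Set.mem_iUnion.2 ⟨k, ?_⟩
    exact IsOpen.stableUnderGeneralization (hopen k)
      ((PrimeSpectrum.le_iff_specializes p ⟨m, hm.isPrime⟩).1 hpm) hk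
  obtain ⟨k, hk⟩ := isCompact_univ.elim_directed_cover U hopen hcover hmono.directed_le
  have hproj : Module.Projective A (cok F (c - k)) :=
    Module.freeLocus_eq_univ_iff.1 (Set.eq_univ_of_univ_subset hk)
  haveI : (DRing.toD F).IsGE (c - k) := (isGE_iff _ _).2 fun i hi =>
    ((HH i).mapIso e).toLinearEquiv.toEquiv.subsingleton_congr.2 (hX i (Or.inl (by omega)))
  obtain ⟨e'⟩ := exists_truncFrom_iso F (c - k)
  refine ⟨truncFrom F (c - k), c - k, B, vanishesOutside_truncFrom F _ B,
    truncFrom_mem modClass_finiteProjective F _ (fun i _ => ⟨(hF i).1, hFp i⟩) ?_, ⟨e' ≪≫ e⟩⟩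
  haveI := hproj
  exact ⟨Module.Finite.equiv (truncFromBotEquiv F (c - k)),
    Module.Projective.of_equiv (truncFromBotEquiv F (c - k))⟩

end Groth.Agent.Invert9
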